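import Groth.Prelude.Def_W4stktopologysheavesDim
import Groth.Prelude.Def_Found
import Mathlib.Topology.Sober
import Mathlib.RingTheory.Spectrum.Prime.Topology
import Mathlib.Order.Cover
import Mathlib.RingTheory.Localization.AtPrime.Basic

/-!
# Catenary posets and catenary spaces

`Cat P` is the order-theoretic content of both `PtTop.IsCatenarySpace` and `CAlg.IsCatenary`:
intervals have bounded chains and any two saturated chains with the same ends have the same length.
-/

set_option autoImplicit false

namespace Groth.Agent.PtTop.Catenary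

open TopologicalSpace Topology

universe u v w

/-- every step of the series is a covering relation -/
def Saturated {P : Type u} [PartialOrder P] (s : LTSeries P) : Prop :=
  ∀ i : Fin s.length, s (Fin.castSucc i) ⋖ s (Fin.succ i)

/-- bounded chains in intervals, and equal lengths of saturated chains with the same ends -/
def Cat (P : Type u) [PartialOrder P] : Prop :=
  (∀ p q : P, p ≤ q → ∃ n : ℕ, ∀ s : LTSeries P, s.head = p → s.last = q → s.length ≤ n) ∧
    ∀ s t : LTSeries P, s.head = t.head → s.last = t.last → Saturated s → Saturated t →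
      s.length = t.length

theorem cat_iff_isCatenary (R : Type u) [CommRing R] :
    CAlg.IsCatenary R ↔ Cat (PrimeSpectrum R) := Iff.rfl

section Order

variable {P : Type u} {Q : Type v} [PartialOrder P] [PartialOrder Q]

theorem apply_mem_of_ordConnected {S : Set Q} (hS : S.OrdConnected) (s : LTSeries Q)
    (hh : s.head ∈ S) (hl : s.last ∈ S) (i : Fin (s.length + 1)) : s i ∈ S :=
  hS.out hh hl ⟨s.monotone (Fin.zero_le i), s.monotone (Fin.le_last i)⟩

theorem exists_lift (g : P ↪o Q) (hg : (Set.range g).OrdConnected) (s : LTSeries Q)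
    (hh : s.head ∈ Set.range g) (hl : s.last ∈ Set.range g) :
    ∃ t : LTSeries P, t.map g g.strictMono = s := by
  choose a ha using apply_mem_of_ordConnected hg s hh hl
  refine ⟨LTSeries.mk s.length a fun i j hij => g.lt_iff_lt.mp (by rw [ha, ha]; exact s.strictMono hij), ?_⟩
  refine RelSeries.ext rfl ?_
  funext i
  exact ha i

theorem saturated_map_iff (g : P ↪o Q) (hg : (Set.range g).OrdConnected) (t : LTSeries P) :
    Saturated (t.map g g.strictMono) ↔ Saturated t :=
  forall_congr' fun _ => Set.OrdConnected.apply_covBy_apply_iff g hg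

/-- `Cat` passes to order-connected sub-posets. -/
theorem Cat.of_embedding (h : Cat Q) (g : P ↪o Q) (hg : (Set.range g).OrdConnected) : Cat P := by
  refine ⟨fun p q hpq => ?_, fun s t h1 h2 hs ht => ?_⟩
  · obtain ⟨n, hn⟩ := h.1 (g p) (g q) (g.monotone hpq)
    exact ⟨n, fun s hp hq => hn (s.map g g.strictMono) (by simp [hp]) (by simp [hq])⟩
  · exact h.2 (s.map g g.strictMono) (t.map g g.strictMono) (by simp [h1]) (by simp [h2])
      ((saturated_map_iff g hg s).mpr hs) ((saturated_map_iff g hg t).mpr ht)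

theorem Cat.of_orderIso (h : Cat Q) (e : P ≃o Q) : Cat P :=
  h.of_embedding e.toOrderEmbedding (Set.ordConnected_range (e : P ≃o Q))

theorem cat_congr (e : P ≃o Q) : Cat P ↔ Cat Q :=
  ⟨fun h => h.of_orderIso e.symm, fun h => h.of_orderIso e⟩

/-- `Cat` can be checked on a family of order-connected sub-posets containing every pair `p ≤ q`. -/
theorem cat_of_cover
    (h : ∀ p q : Q, p ≤ q → ∃ (P : Type w) (_ : PartialOrder P) (g : P ↪o Q),
      (Set.range g).OrdConnected ∧ p ∈ Set.range g ∧ q ∈ Set.range g ∧ Cat P) : Cat Q := by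
  refine ⟨fun p q hpq => ?_, fun s t h1 h2 hs ht => ?_⟩
  · obtain ⟨P, _, g, hg, hp, hq, hP⟩ := h p q hpq
    obtain ⟨p', rfl⟩ := hp
    obtain ⟨q', rfl⟩ := hq
    obtain ⟨n, hn⟩ := hP.1 p' q' (g.le_iff_le.mp hpq)
    refine ⟨n, fun s hsp hsq => ?_⟩
    obtain ⟨t, rfl⟩ := exists_lift g hg s ⟨p', hsp.symm⟩ ⟨q', hsq.symm⟩
    exact hn t (g.injective (by simpa using hsp)) (g.injective (by simpa using hsq))
  · obtain ⟨P, _, g, hg, hp, hq, hP⟩ := h s.head s.last s.head_le_last
    obtain ⟨s', rfl⟩ := exists_lift g hg s hp hq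
    obtain ⟨t', rfl⟩ := exists_lift g hg t (h1 ▸ hp) (h2 ▸ hq)
    exact hP.2 s' t' (g.injective (by simpa using h1)) (g.injective (by simpa using h2))
      ((saturated_map_iff g hg s').mp hs) ((saturated_map_iff g hg t').mp ht)

/-- the reversed series in the dual order -/
def rev (s : LTSeries P) : LTSeries Pᵒᵈ :=
  LTSeries.mk s.length (fun i => OrderDual.toDual (s (Fin.rev i)))
    fun _ _ hij => OrderDual.toDual_lt_toDual.mpr (s.strictMono (Fin.rev_lt_rev.mpr hij))

@[simp] theorem length_rev (s : LTSeries P) : (rev s).length = s.length := rfl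
@[simp] theorem head_rev (s : LTSeries P) : (rev s).head = OrderDual.toDual s.last := by
  change OrderDual.toDual (s (Fin.rev 0)) = _
  rw [Fin.rev_zero]
  rfl
@[simp] theorem last_rev (s : LTSeries P) : (rev s).last = OrderDual.toDual s.head := by
  change OrderDual.toDual (s (Fin.rev (Fin.last _))) = _
  rw [Fin.rev_last]
  rfl

theorem saturated_rev {s : LTSeries P} (h : Saturated s) : Saturated (rev s) := by
  show ∀ i : Fin s.length,
    OrderDual.toDual (s (Fin.rev i.castSucc)) ⋖ OrderDual.toDual (s (Fin.rev i.succ))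
  intro i
  rw [Fin.rev_castSucc, Fin.rev_succ, toDual_covBy_toDual_iff]
  exact h (Fin.rev i)

theorem Cat.of_dual (h : Cat Pᵒᵈ) : Cat P := by
  refine ⟨fun p q hpq => ?_, fun s t h1 h2 hs ht => ?_⟩
  · obtain ⟨n, hn⟩ := h.1 (OrderDual.toDual q) (OrderDual.toDual p) hpq
    exact ⟨n, fun s hp hq => hn (rev s) (by rw [head_rev, hq]) (by rw [last_rev, hp])⟩
  · exact h.2 (rev s) (rev t) (by simp [h2]) (by simp [h1]) (saturated_rev hs) (saturated_rev ht)

theorem cat_dual : Cat Pᵒᵈ ↔ Cat P :=
  ⟨Cat.of_dual, fun h => Cat.of_dual (h.of_orderIso (OrderIso.dualDual P).symm)⟩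

/-- along a series, a strictly monotone integer function grows by at least one at each step -/
theorem length_le_rank_sub (r : P → ℤ) (hr : StrictMono r) (s : LTSeries P) :
    (s.length : ℤ) ≤ r s.last - r s.head := by
  induction s using RelSeries.inductionOn with
  | singleton a => simp
  | cons p a hlt ih =>
    have : r a < r p.head := hr hlt
    simp only [RelSeries.cons_length, RelSeries.last_cons, RelSeries.head_cons]
    push_cast
    omega

theorem length_eq_rank_sub (r : P → ℤ) (hc : ∀ a b : P, a ⋖ b → r b = r a + 1) (s : LTSeries P)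
    (hs : Saturated s) : (s.length : ℤ) = r s.last - r s.head := by
  have key : ∀ i : Fin (s.length + 1), r (s i) = r s.head + (i : ℕ) := by
    intro i
    induction i using Fin.induction with
    | zero => simp [RelSeries.head]
    | succ j ih => rw [hc _ _ (hs j), ih]; simp [add_assoc]
  have h2 := key (Fin.last s.length)
  rw [Fin.val_last] at h2
  change (s.length : ℤ) = r (s (Fin.last _)) - _
  omega

/-- a rank function makes a poset catenary -/
theorem cat_of_rank (r : P → ℤ) (hr : StrictMono r) (hc : ∀ a b : P, a ⋖ b → r b = r a + 1) :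
    Cat P := by
  refine ⟨fun p q _ => ⟨(r q - r p).toNat, fun s hp hq => ?_⟩, fun s t h1 h2 hs ht => ?_⟩
  · have := length_le_rank_sub r hr s
    rw [hp, hq] at this
    omega
  · have e1 := length_eq_rank_sub r hc s hs
    have e2 := length_eq_rank_sub r hc t ht
    rw [h1, h2] at e1
    omega

/-- a longest series with given ends is saturated -/
theorem saturated_of_longest (s : LTSeries P)
    (h : ∀ t : LTSeries P, t.head = s.head → t.last = s.last → t.length ≤ s.length) :
    Saturated s := by
  intro i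
  refine ⟨s.step i, fun c h1 h2 => ?_⟩
  let t : LTSeries P := s.insertNth i c h1 h2
  have hlen : t.length = s.length + 1 := rfl
  have hh : t.head = s.head := by
    change Fin.insertNth (α := fun _ => P) (Fin.castSucc i.succ) c s 0 = s 0
    rw [show (0 : Fin (s.length + 1 + 1)) = (Fin.castSucc i.succ).succAbove 0 from
      (Fin.succAbove_ne_zero_zero (by simp [Fin.ext_iff])).symm, Fin.insertNth_apply_succAbove]
  have hl : t.last = s.last := by
    change Fin.insertNth (α := fun _ => P) (Fin.castSucc i.succ) c s (Fin.last _) = s (Fin.last _)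
    rw [show Fin.last (s.length + 1) = (Fin.castSucc i.succ).succAbove (Fin.last s.length) from
      (Fin.succAbove_ne_last_last (by simp [Fin.ext_iff]; omega)).symm,
      Fin.insertNth_apply_succAbove]
  have := h t hh hl
  omega

end Order

section Codim

variable {X : Type u} [TopologicalSpace X]

theorem length_le_codim {Y : IrreducibleCloseds X} {T : Set X}
    (s : LTSeries (IrreducibleCloseds X)) (hh : s.head = Y) (hl : (s.last : Set X) ⊆ T) :
    (s.length : ℕ∞) ≤ _root_.PtTop.codim Y T :=
  le_iSup₂_of_le s ⟨hh, hl⟩ le_rfl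

theorem codim_le_iff {Y : IrreducibleCloseds X} {T : Set X} {n : ℕ∞} :
    _root_.PtTop.codim Y T ≤ n ↔ ∀ s : LTSeries (IrreducibleCloseds X),
      s.head = Y → (s.last : Set X) ⊆ T → (s.length : ℕ∞) ≤ n := by
  simp only [_root_.PtTop.codim, iSup_le_iff, and_imp]

/-- a series from `Y` staying in `Y'` extends to one ending at `Y'` -/
theorem exists_extend {Y' : IrreducibleCloseds X} (s : LTSeries (IrreducibleCloseds X))
    (hl : s.last ≤ Y') :
    ∃ t : LTSeries (IrreducibleCloseds X), t.head = s.head ∧ t.last = Y' ∧ s.length ≤ t.length := by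
  rcases hl.eq_or_lt with h | h
  · exact ⟨s, rfl, h, le_rfl⟩
  · exact ⟨s.snoc Y' h, RelSeries.head_snoc .., RelSeries.last_snoc .., by
      simp [RelSeries.snoc]⟩

theorem exists_maximal_series {Y Y' : IrreducibleCloseds X} (hle : Y ≤ Y') {n : ℕ}
    (hn : _root_.PtTop.codim Y (Y' : Set X) = n) :
    ∃ s : LTSeries (IrreducibleCloseds X),
      s.head = Y ∧ s.last = Y' ∧ s.length = n ∧ Saturated s := by
  have hex : ∃ s : LTSeries (IrreducibleCloseds X), s.head = Y ∧ s.last = Y' ∧ n ≤ s.length := by
    by_contra hcon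
    push Not at hcon
    obtain ⟨t0, h0, h1, -⟩ := exists_extend (RelSeries.singleton _ Y) hle
    have hn0 := hcon t0 h0 h1
    have : _root_.PtTop.codim Y (Y' : Set X) ≤ ((n - 1 : ℕ) : ℕ∞) := by
      refine codim_le_iff.mpr fun s hs hsl => ?_
      obtain ⟨t, ht0, ht1, hst⟩ := exists_extend s (Y' := Y') hsl
      have := hcon t (ht0.trans hs) ht1
      exact Nat.cast_le.mpr (by omega)
    rw [hn, Nat.cast_le] at this
    omega
  obtain ⟨s, hs0, hs1, hsn⟩ := hex
  have hle' : ∀ t : LTSeries (IrreducibleCloseds X), t.head = Y → t.last = Y' → t.length ≤ n :=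
    fun t ht0 ht1 => Nat.cast_le.mp (hn ▸ length_le_codim t ht0 (by rw [ht1]))
  have hlen : s.length = n := le_antisymm (hle' s hs0 hs1) hsn
  exact ⟨s, hs0, hs1, hlen, saturated_of_longest s fun t ht0 ht1 =>
    hlen.symm ▸ hle' t (ht0.trans hs0) (ht1.trans hs1)⟩

theorem codim_ne_top_of_cat (h : Cat (IrreducibleCloseds X)) {Y Y' : IrreducibleCloseds X}
    (hle : Y ≤ Y') : _root_.PtTop.codim Y (Y' : Set X) ≠ ⊤ := by
  obtain ⟨n, hn⟩ := h.1 Y Y' hle
  refine ne_top_of_le_ne_top (ENat.natCast_ne_top n) (codim_le_iff.mpr fun s hs hsl => ?_)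
  obtain ⟨t, ht0, ht1, hst⟩ := exists_extend s (Y' := Y') hsl
  exact Nat.cast_le.mpr (hst.trans (hn t (ht0.trans hs) ht1))

theorem codim_eq_of_saturated (h : Cat (IrreducibleCloseds X))
    (s : LTSeries (IrreducibleCloseds X)) (hs : Saturated s) :
    _root_.PtTop.codim s.head (s.last : Set X) = s.length := by
  obtain ⟨n, hn⟩ := ENat.ne_top_iff_exists.mp (codim_ne_top_of_cat h s.head_le_last)
  obtain ⟨t, ht0, ht1, htn, htsat⟩ := exists_maximal_series s.head_le_last hn.symm
  rw [← hn, ← htn, h.2 t s ht0 ht1 htsat hs]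

theorem isCatenarySpace_iff :
    _root_.PtTop.IsCatenarySpace X ↔ Cat (IrreducibleCloseds X) := by
  constructor
  · intro h
    refine ⟨fun p q hpq => ?_, fun s t h1 h2 hs ht => ?_⟩
    · obtain ⟨n, hn⟩ := ENat.ne_top_iff_exists.mp (h p q hpq).1
      exact ⟨n, fun s hp hq => Nat.cast_le.mp (hn ▸ length_le_codim s hp (by rw [hq]))⟩
    · have e1 := (h _ _ s.head_le_last).2 s rfl rfl hs
      have e2 := (h _ _ s.head_le_last).2 t h1.symm h2.symm ht
      exact_mod_cast e1.trans e2.symm
  · intro h T T' hTT'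
    refine ⟨codim_ne_top_of_cat h hTT', fun s hs0 hs1 hs => ?_⟩
    rw [← hs0, ← hs1, codim_eq_of_saturated h s hs]

theorem codim_add (h : Cat (IrreducibleCloseds X)) {Y Y' Y'' : IrreducibleCloseds X}
    (h1 : Y ≤ Y') (h2 : Y' ≤ Y'') :
    _root_.PtTop.codim Y (Y'' : Set X) =
      _root_.PtTop.codim Y (Y' : Set X) + _root_.PtTop.codim Y' (Y'' : Set X) := by
  obtain ⟨a, ha⟩ := ENat.ne_top_iff_exists.mp (codim_ne_top_of_cat h h1)
  obtain ⟨b, hb⟩ := ENat.ne_top_iff_exists.mp (codim_ne_top_of_cat h h2)
  obtain ⟨s, s0, s1, sa, ss⟩ := exists_maximal_series h1 ha.symm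
  obtain ⟨t, t0, t1, tb, ts⟩ := exists_maximal_series h2 hb.symm
  have hc : s.last = t.head := s1.trans t0.symm
  have hsat : Saturated (RelSeries.smash s t hc) := by
    intro i
    refine Fin.addCases (m := s.length) (n := t.length)
      (motive := fun i => (RelSeries.smash s t hc) (Fin.castSucc i) ⋖
        (RelSeries.smash s t hc) (Fin.succ i)) (fun i => ?_) (fun i => ?_) i
    · erw [RelSeries.smash_castAdd, RelSeries.smash_succ_castAdd]; exact ss i
    · erw [RelSeries.smash_natAdd, RelSeries.smash_succ_natAdd]; exact ts i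
  have := codim_eq_of_saturated h _ hsat
  rw [RelSeries.head_smash, RelSeries.last_smash, s0, t1, RelSeries.smash_length, Nat.cast_add,
    sa, tb, ha, hb] at this
  exact this

end Codim

section Subspace

variable {X : Type u} {S : Type v} [TopologicalSpace X] [TopologicalSpace S] {f : S → X}

/-- irreducible closed subsets of a subspace -/
noncomputable def mapEmb (f : S → X) (hf : IsInducing f) :
    IrreducibleCloseds S ↪o IrreducibleCloseds X :=
  OrderEmbedding.ofMapLEIff (IrreducibleCloseds.map f hf.continuous) fun a b =>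
    ⟨fun h x hx => by
      have : x ∈ f ⁻¹' closure (f '' (b : Set S)) := h (subset_closure ⟨x, hx, rfl⟩)
      rwa [← hf.closure_eq_preimage_closure_image, b.isClosed.closure_eq] at this,
    fun h => IrreducibleCloseds.map_mono hf.continuous h⟩

@[simp] theorem coe_mapEmb (hf : IsInducing f) (a : IrreducibleCloseds S) :
    (mapEmb f hf a : Set X) = closure (f '' a) := rfl

theorem mem_range_mapEmb (hf : IsInducing f) {O C : Set X} (hO : IsOpen O)
    (hr : Set.range f = O ∩ C) (hC : IsClosed C) {Z : IrreducibleCloseds X} :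
    Z ∈ Set.range (mapEmb f hf) ↔ ((Z : Set X) ∩ O).Nonempty ∧ (Z : Set X) ⊆ C := by
  constructor
  · rintro ⟨a, rfl⟩
    obtain ⟨x, hx⟩ := a.isIrreducible.nonempty
    have hsub : f '' (a : Set S) ⊆ O ∩ C := hr ▸ Set.image_subset_range f a
    exact ⟨⟨f x, subset_closure ⟨x, hx, rfl⟩, (hsub ⟨x, hx, rfl⟩).1⟩,
      closure_minimal (hsub.trans Set.inter_subset_right) hC⟩
  · rintro ⟨hne, hsub⟩
    have himg : f '' (f ⁻¹' (Z : Set X)) = (Z : Set X) ∩ O := by
      rw [Set.image_preimage_eq_inter_range, hr]
      ext y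
      exact ⟨fun h => ⟨h.1, h.2.1⟩, fun h => ⟨h.1, h.2, hsub h.1⟩⟩
    have hirr : IsIrreducible (f ⁻¹' (Z : Set X)) := by
      refine ⟨?_, ?_⟩
      · obtain ⟨y, hy⟩ := hne
        rw [← himg] at hy
        obtain ⟨x, hx, -⟩ := hy
        exact ⟨x, hx⟩
      · intro u v hu hv ⟨a, ha, hau⟩ ⟨b, hb, hbv⟩
        obtain ⟨u', hu', rfl⟩ := hf.isOpen_iff.mp hu
        obtain ⟨v', hv', rfl⟩ := hf.isOpen_iff.mp hv
        have haO : f a ∈ O := (hr ▸ Set.mem_range_self a : f a ∈ O ∩ C).1
        have hbO : f b ∈ O := (hr ▸ Set.mem_range_self b : f b ∈ O ∩ C).1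
        obtain ⟨y, hyZ, ⟨hyu, hyO⟩, hyv, -⟩ := Z.isIrreducible.isPreirreducible _ _
          (hu'.inter hO) (hv'.inter hO) ⟨f a, ha, hau, haO⟩ ⟨f b, hb, hbv, hbO⟩
        obtain ⟨x, rfl⟩ : y ∈ Set.range f := hr ▸ ⟨hyO, hsub hyZ⟩
        exact ⟨x, hyZ, hyu, hyv⟩
    refine ⟨⟨f ⁻¹' Z, hirr, Z.isClosed.preimage hf.continuous⟩, IrreducibleCloseds.ext ?_⟩
    rw [coe_mapEmb]
    change closure (f '' (f ⁻¹' (Z : Set X))) = _
    rw [himg]
    exact subset_antisymm (closure_minimal Set.inter_subset_left Z.isClosed)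
      (subset_closure_inter_of_isPreirreducible_of_isOpen Z.isIrreducible.isPreirreducible hO hne)

theorem ordConnected_range_mapEmb (hf : IsInducing f) (hr : IsLocallyClosed (Set.range f)) :
    (Set.range (mapEmb f hf)).OrdConnected := by
  obtain ⟨O, C, hO, hC, hr⟩ := hr
  refine ⟨fun a ha b hb Z hZ => ?_⟩
  rw [mem_range_mapEmb hf hO hr hC] at ha hb ⊢
  exact ⟨ha.1.mono (Set.inter_subset_inter_left _ hZ.1), subset_trans hZ.2 hb.2⟩

theorem Cat.subspace (h : Cat (IrreducibleCloseds X)) (hf : IsInducing f)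
    (hr : IsLocallyClosed (Set.range f)) : Cat (IrreducibleCloseds S) :=
  h.of_embedding _ (ordConnected_range_mapEmb hf hr)

/-- catenarity is local on an open covering -/
theorem cat_of_openEmbeddings {ι : Type w} {S : ι → Type v} [∀ i, TopologicalSpace (S i)]
    (f : ∀ i, S i → X) (hf : ∀ i, IsOpenEmbedding (f i))
    (hcov : ∀ x, ∃ i, x ∈ Set.range (f i)) (h : ∀ i, Cat (IrreducibleCloseds (S i))) :
    Cat (IrreducibleCloseds X) := by
  refine cat_of_cover fun p q hpq => ?_
  obtain ⟨x, hx⟩ := p.isIrreducible.nonempty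
  obtain ⟨i, hi⟩ := hcov x
  have hr : Set.range (f i) = Set.range (f i) ∩ Set.univ := (Set.inter_univ _).symm
  exact ⟨IrreducibleCloseds (S i), inferInstance, mapEmb (f i) (hf i).isInducing,
    ordConnected_range_mapEmb _ (hf i).isOpen_range.isLocallyClosed,
    (mem_range_mapEmb _ (hf i).isOpen_range hr isClosed_univ).mpr ⟨⟨x, hx, hi⟩, Set.subset_univ _⟩,
    (mem_range_mapEmb _ (hf i).isOpen_range hr isClosed_univ).mpr
      ⟨⟨x, hpq hx, hi⟩, Set.subset_univ _⟩, h i⟩

end Subspace

section Sober

variable {X : Type u} [TopologicalSpace X] [QuasiSober X] [T0Space X]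

theorem eq_genericPoint_of_closure_eq {T : IrreducibleCloseds X} {x : X}
    (h : closure {x} = (T : Set X)) : x = T.isIrreducible.genericPoint :=
  IsGenericPoint.eq h (T.isIrreducible.isGenericPoint_genericPoint T.isClosed)

theorem specializes_genericPoint {T T' : IrreducibleCloseds X} (h : T ≤ T') :
    T'.isIrreducible.genericPoint ⤳ T.isIrreducible.genericPoint :=
  (T'.isIrreducible.isGenericPoint_genericPoint T'.isClosed).specializes
    (h (T.isIrreducible.isGenericPoint_genericPoint T.isClosed).mem)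

theorem genericPoint_injective {T T' : IrreducibleCloseds X}
    (h : T.isIrreducible.genericPoint = T'.isIrreducible.genericPoint) : T = T' := by
  apply IrreducibleCloseds.ext
  rw [← T.isIrreducible.closure_genericPoint T.isClosed,
    ← T'.isIrreducible.closure_genericPoint T'.isClosed, h]

variable {δ : X → ℤ} (hδ : _root_.PtTop.IsDimensionFunction δ)
include hδ

theorem rank_strictMono :
    StrictMono fun T : IrreducibleCloseds X => δ T.isIrreducible.genericPoint :=
  fun _ _ h => hδ.1 _ _ (specializes_genericPoint h.le) fun e => h.ne (genericPoint_injective e.symm)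

theorem rank_covBy (a b : IrreducibleCloseds X) (h : a ⋖ b) :
    δ b.isIrreducible.genericPoint = δ a.isIrreducible.genericPoint + 1 := by
  refine hδ.2 _ _ ⟨specializes_genericPoint h.le, fun e => h.ne (genericPoint_injective e.symm),
    fun z hbz hza => ?_⟩
  let C : IrreducibleCloseds X := ⟨closure {z}, isIrreducible_singleton.closure, isClosed_closure⟩
  have hgz : z = C.isIrreducible.genericPoint := eq_genericPoint_of_closure_eq rfl
  have h1 : a ≤ C := by
    change (a : Set X) ⊆ closure {z}
    rw [← a.isIrreducible.closure_genericPoint a.isClosed]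
    exact specializes_iff_closure_subset.mp hza
  have h2 : C ≤ b := by
    change closure {z} ⊆ (b : Set X)
    rw [← b.isIrreducible.closure_genericPoint b.isClosed]
    exact specializes_iff_closure_subset.mp hbz
  rcases h.eq_or_eq h1 h2 with e | e
  · right; subst e; exact hgz
  · left; subst e; exact hgz

theorem cat_of_dimensionFunction : Cat (IrreducibleCloseds X) :=
  cat_of_rank _ (rank_strictMono hδ) (rank_covBy hδ)

theorem codim_closure_eq {x y : X} (h : x ⤳ y) :
    _root_.PtTop.codim
      (⟨closure {y}, isIrreducible_singleton.closure, isClosed_closure⟩ : IrreducibleCloseds X)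
      (closure {x}) = ((δ x - δ y).toNat : ℕ∞) := by
  set Y : IrreducibleCloseds X :=
    ⟨closure {y}, isIrreducible_singleton.closure, isClosed_closure⟩ with hY
  let Y' : IrreducibleCloseds X :=
    ⟨closure {x}, isIrreducible_singleton.closure, isClosed_closure⟩
  have hle : Y ≤ Y' := specializes_iff_closure_subset.mp h
  have hcat := cat_of_dimensionFunction hδ
  obtain ⟨n, hn⟩ := ENat.ne_top_iff_exists.mp (codim_ne_top_of_cat hcat hle)
  obtain ⟨s, h0, h1, hlen, hsat⟩ := exists_maximal_series hle hn.symm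
  change _root_.PtTop.codim Y (Y' : Set X) = _
  rw [← hn, ← hlen]
  have := length_eq_rank_sub _ (rank_covBy hδ) s hsat
  rw [h0, h1, ← eq_genericPoint_of_closure_eq (x := x) (T := Y') rfl,
    ← eq_genericPoint_of_closure_eq (x := y) (T := Y) rfl] at this
  rw [← this, Int.toNat_natCast]

end Sober

section Spec

variable (R : Type u) [CommRing R]

theorem cat_primeSpectrum :
    Cat (IrreducibleCloseds (PrimeSpectrum R)) ↔ CAlg.IsCatenary R :=
  cat_dual.symm.trans (cat_congr (PrimeSpectrum.pointsEquivIrreducibleCloseds R)).symm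

variable {R}

/-- the order embedding on prime spectra induced by a surjection or a localisation -/
theorem isCatenary_of_surjective {A : Type u} [CommRing A] (f : R →+* A)
    (hf : Function.Surjective f) (h : CAlg.IsCatenary R) : CAlg.IsCatenary A := by
  refine Cat.of_embedding (P := PrimeSpectrum A) (Q := PrimeSpectrum R) h
    (OrderEmbedding.ofMapLEIff (PrimeSpectrum.comap f) fun a b =>
      ⟨fun hab x hx => ?_, fun hab => Ideal.comap_mono hab⟩) ⟨fun a ha b _ z hz => ?_⟩
  · obtain ⟨r, rfl⟩ := hf x; exact hab hx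
  · obtain ⟨a, rfl⟩ := ha
    have : RingHom.ker f ≤ z.asIdeal := le_trans (fun r hr => by
      change f r ∈ a.asIdeal
      rw [RingHom.mem_ker.mp hr]; exact zero_mem _) hz.1
    have hz' := range_comap_of_surjective _ f hf
    change z ∈ Set.range (PrimeSpectrum.comap f)
    rw [hz']; exact this

/-- the order embedding on prime spectra given by a localisation -/
noncomputable def locEmb (M : Submonoid R) (A : Type v) [CommRing A] [Algebra R A]
    [IsLocalization M A] : PrimeSpectrum A ↪o PrimeSpectrum R :=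
  OrderEmbedding.ofMapLEIff (PrimeSpectrum.comap (algebraMap R A)) fun a b =>
    ⟨fun hab => by
      have := Ideal.map_mono (f := algebraMap R A) hab
      rwa [PrimeSpectrum.comap_asIdeal, PrimeSpectrum.comap_asIdeal, IsLocalization.map_comap M,
        IsLocalization.map_comap M] at this,
    fun hab => Ideal.comap_mono hab⟩

theorem range_locEmb (M : Submonoid R) (A : Type v) [CommRing A] [Algebra R A]
    [IsLocalization M A] :
    Set.range (locEmb M A) = {p : PrimeSpectrum R | Disjoint (M : Set R) p.asIdeal} :=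
  PrimeSpectrum.localization_comap_range A M

theorem ordConnected_range_locEmb (M : Submonoid R) (A : Type v) [CommRing A] [Algebra R A]
    [IsLocalization M A] : (Set.range (locEmb M A)).OrdConnected := by
  rw [range_locEmb]
  exact ⟨fun _ _ b hb z hz => Set.disjoint_of_subset_right hz.2 hb⟩

theorem isCatenary_of_isLocalization (M : Submonoid R) (A : Type u) [CommRing A] [Algebra R A]
    [IsLocalization M A] (h : CAlg.IsCatenary R) : CAlg.IsCatenary A :=
  Cat.of_embedding (P := PrimeSpectrum A) (Q := PrimeSpectrum R) h (locEmb M A)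
    (ordConnected_range_locEmb M A)

end Spec

end Groth.Agent.PtTop.Catenary
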