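import Groth.Prelude.Def_W4stktopologysheavesDim
import Mathlib.Topology.Sober
import Mathlib.Topology.Spectral.Basic
import Mathlib.Topology.NoetherianSpace

/-!
# Soberification

The open subsets of `PtTop.Sob X` are exactly the sets `hat U` of irreducible closed subsets meeting
an open `U`.
-/

set_option autoImplicit false

namespace Groth.Agent.PtTop.Sob

open TopologicalSpace Topology _root_.PtTop

universe u

variable {X : Type u} [TopologicalSpace X]

/-- irreducible closed sets meeting `U` -/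
def hat (U : Set X) : Set (_root_.PtTop.Sob X) :=
  {Z : IrreducibleCloseds X | ((Z : Set X) ∩ U).Nonempty}

theorem isOpen_hat {U : Set X} (hU : IsOpen U) : IsOpen (hat U) :=
  TopologicalSpace.isOpen_generateFrom_of_mem ⟨⟨U, hU⟩, rfl⟩

theorem hat_inter {U V : Set X} (hU : IsOpen U) (hV : IsOpen V) :
    hat (U ∩ V) = hat U ∩ hat V := by
  refine subset_antisymm (fun Z ⟨x, hx, hxU, hxV⟩ => ⟨⟨x, hx, hxU⟩, ⟨x, hx, hxV⟩⟩) ?_
  rintro Z ⟨h1, h2⟩
  exact IsIrreducible.isPreirreducible (IrreducibleCloseds.isIrreducible Z) U V hU hV h1 h2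

theorem hat_sUnion (S : Set (Set X)) : hat (⋃₀ S) = ⋃₀ (hat '' S) := by
  ext Z
  constructor
  · rintro ⟨x, hx, s, hs, hxs⟩
    exact ⟨hat s, ⟨s, hs, rfl⟩, x, hx, hxs⟩
  · rintro ⟨_, ⟨s, hs, rfl⟩, x, hx, hxs⟩
    exact ⟨x, hx, s, hs, hxs⟩

theorem hat_iUnion {ι : Sort*} (s : ι → Set X) : hat (⋃ i, s i) = ⋃ i, hat (s i) := by
  rw [← Set.sUnion_range, hat_sUnion, ← Set.range_comp, Set.sUnion_range]
  rfl

theorem hat_univ : hat (Set.univ : Set X) = Set.univ :=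
  Set.eq_univ_iff_forall.mpr fun Z => by
    obtain ⟨x, hx⟩ := (IrreducibleCloseds.isIrreducible Z).nonempty
    exact ⟨x, hx, trivial⟩

theorem preimage_hat {U : Set X} (hU : IsOpen U) : toSob X ⁻¹' hat U = U := by
  ext x
  exact ⟨fun ⟨y, hy, hyU⟩ => (specializes_iff_mem_closure.mpr hy).mem_open hU hyU,
    fun hx => ⟨x, subset_closure rfl, hx⟩⟩

theorem exists_eq_hat {S : Set (_root_.PtTop.Sob X)} (hS : IsOpen S) :
    ∃ U : Set X, IsOpen U ∧ S = hat U := by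
  induction hS with
  | basic s hs =>
    obtain ⟨U, rfl⟩ := hs
    exact ⟨U, U.2, rfl⟩
  | univ => exact ⟨Set.univ, isOpen_univ, hat_univ.symm⟩
  | inter s t _ _ hs ht =>
    obtain ⟨U, hU, rfl⟩ := hs
    obtain ⟨V, hV, rfl⟩ := ht
    exact ⟨U ∩ V, hU.inter hV, (hat_inter hU hV).symm⟩
  | sUnion S _ ih =>
    choose U hU hUs using ih
    refine ⟨⋃ s : S, U s s.2, isOpen_iUnion fun s => hU _ _, ?_⟩
    rw [hat_iUnion, Set.sUnion_eq_iUnion]
    exact Set.iUnion_congr fun s => hUs _ _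

theorem continuous_toSob : Continuous (toSob X) :=
  continuous_generateFrom_iff.mpr fun S ⟨U, hU⟩ => by
    rw [show S = hat U from hU]
    exact (congrArg IsOpen (preimage_hat U.2)).mpr U.2

theorem hat_injective {U V : Set X} (hU : IsOpen U) (hV : IsOpen V) (h : hat U = hat V) : U = V := by
  rw [← preimage_hat hU, h, preimage_hat hV]

theorem specializes_iff {Z Z' : _root_.PtTop.Sob X} :
    Z ⤳ Z' ↔ IrreducibleCloseds.carrier Z' ⊆ IrreducibleCloseds.carrier Z := by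
  rw [specializes_iff_forall_open]
  constructor
  · intro h x hx
    by_contra hxZ
    obtain ⟨y, hy, hyc⟩ := h (hat (IrreducibleCloseds.carrier Z)ᶜ)
      (isOpen_hat (IrreducibleCloseds.isClosed Z).isOpen_compl) ⟨x, hx, hxZ⟩
    exact hyc hy
  · intro h S hS hZ'
    obtain ⟨U, -, rfl⟩ := exists_eq_hat hS
    obtain ⟨x, hx, hxU⟩ := hZ'
    exact ⟨x, h hx, hxU⟩

instance t0Space : T0Space (_root_.PtTop.Sob X) :=
  ⟨fun _ _ h => IrreducibleCloseds.ext
    (subset_antisymm (specializes_iff.mp h.specializes') (specializes_iff.mp h.specializes))⟩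

instance quasiSober : QuasiSober (_root_.PtTop.Sob X) := by
  refine ⟨fun {S} hS hSc => ?_⟩
  obtain ⟨U, hU, hSU⟩ := exists_eq_hat hSc.isOpen_compl
  have hmem : ∀ Z : _root_.PtTop.Sob X, Z ∈ S ↔ IrreducibleCloseds.carrier Z ⊆ Uᶜ := by
    intro Z
    rw [← not_not (a := Z ∈ S), ← Set.mem_compl_iff, hSU]
    exact ⟨fun h x hx hxU => h ⟨x, hx, hxU⟩, fun h ⟨x, hx, hxU⟩ => h hx hxU⟩
  have hirr : IsIrreducible Uᶜ := by
    refine ⟨?_, fun a b ha hb hna hnb => ?_⟩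
    · obtain ⟨Z, hZ⟩ := hS.nonempty
      obtain ⟨x, hx⟩ := (IrreducibleCloseds.isIrreducible Z).nonempty
      exact ⟨x, (hmem Z).mp hZ hx⟩
    · have key : ∀ x ∈ Uᶜ, toSob X x ∈ S := fun x hx =>
        (hmem _).mpr (closure_minimal (Set.singleton_subset_iff.mpr hx) hU.isClosed_compl)
      obtain ⟨x, hx, hxa⟩ := hna
      obtain ⟨y, hy, hyb⟩ := hnb
      obtain ⟨Z, hZS, hZ⟩ := hS.isPreirreducible (hat a) (hat b) (isOpen_hat ha) (isOpen_hat hb)
        ⟨_, key x hx, x, subset_closure rfl, hxa⟩ ⟨_, key y hy, y, subset_closure rfl, hyb⟩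
      rw [← hat_inter ha hb] at hZ
      obtain ⟨z, hz, hzab⟩ := hZ
      exact ⟨z, (hmem Z).mp hZS hz, hzab⟩
  refine ⟨(⟨Uᶜ, hirr, hU.isClosed_compl⟩ : IrreducibleCloseds X), ?_⟩
  refine subset_antisymm (closure_minimal (Set.singleton_subset_iff.mpr ((hmem _).mpr subset_rfl)) hSc) ?_
  exact fun Z hZ => specializes_iff_mem_closure.mp (specializes_iff.mpr ((hmem Z).mp hZ))

theorem isCompact_hat_iff {U : Set X} (hU : IsOpen U) : IsCompact (hat U) ↔ IsCompact U := by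
  constructor
  · intro h
    refine isCompact_of_finite_subcover fun {ι} V hV hUV => ?_
    obtain ⟨t, ht⟩ := h.elim_finite_subcover (fun i => hat (V i)) (fun i => isOpen_hat (hV i))
      (fun Z hZ => by
        obtain ⟨x, hx, hxU⟩ := hZ
        obtain ⟨i, hi⟩ := Set.mem_iUnion.mp (hUV hxU)
        exact Set.mem_iUnion.mpr ⟨i, x, hx, hi⟩)
    refine ⟨t, fun x hx => ?_⟩
    have : toSob X x ∈ hat U := ⟨x, subset_closure rfl, hx⟩
    obtain ⟨i, hi, hxi⟩ := Set.mem_iUnion₂.mp (ht this)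
    exact Set.mem_iUnion₂.mpr ⟨i, hi, by
      have : x ∈ toSob X ⁻¹' hat (V i) := hxi
      rwa [preimage_hat (hV i)] at this⟩
  · intro h
    refine isCompact_of_finite_subcover fun {ι} W hW hUW => ?_
    choose V hV hWV using fun i => exists_eq_hat (hW i)
    obtain ⟨t, ht⟩ := h.elim_finite_subcover V hV fun x hx => by
      obtain ⟨i, hi⟩ := Set.mem_iUnion.mp (hUW (show toSob X x ∈ hat U from ⟨x, subset_closure rfl, hx⟩))
      refine Set.mem_iUnion.mpr ⟨i, ?_⟩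
      rw [hWV i] at hi
      rw [← preimage_hat (hV i)]
      exact hi
    refine ⟨t, ?_⟩
    rintro Z ⟨x, hx, hxU⟩
    obtain ⟨i, hi, hxi⟩ := Set.mem_iUnion₂.mp (ht hxU)
    exact Set.mem_iUnion₂.mpr ⟨i, hi, hWV i ▸ ⟨x, hx, hxi⟩⟩

theorem compactSpace (h : CompactSpace X) : CompactSpace (_root_.PtTop.Sob X) :=
  ⟨hat_univ (X := X) ▸ (isCompact_hat_iff isOpen_univ).mpr h.isCompact_univ⟩

theorem prespectralSpace [PrespectralSpace X] : PrespectralSpace (_root_.PtTop.Sob X) := by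
  refine ⟨isTopologicalBasis_of_isOpen_of_nhds (fun S hS => hS.1) fun Z S hZ hS => ?_⟩
  obtain ⟨U, hU, rfl⟩ := exists_eq_hat hS
  obtain ⟨x, hx, hxU⟩ := hZ
  obtain ⟨V, ⟨hVo, hVc⟩, hxV, hVU⟩ :=
    PrespectralSpace.isTopologicalBasis.exists_subset_of_mem_open hxU hU
  exact ⟨hat V, ⟨isOpen_hat hVo, (isCompact_hat_iff hVo).mpr hVc⟩, ⟨x, hx, hxV⟩,
    fun W ⟨y, hy, hyV⟩ => ⟨y, hy, hVU hyV⟩⟩

theorem quasiSeparatedSpace [QuasiSeparatedSpace X] :
    QuasiSeparatedSpace (_root_.PtTop.Sob X) := by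
  refine ⟨fun S T hS hSc hT hTc => ?_⟩
  obtain ⟨U, hU, rfl⟩ := exists_eq_hat hS
  obtain ⟨V, hV, rfl⟩ := exists_eq_hat hT
  rw [← hat_inter hU hV, isCompact_hat_iff (hU.inter hV)]
  exact QuasiSeparatedSpace.inter_isCompact _ _ hU ((isCompact_hat_iff hU).mp hSc) hV
    ((isCompact_hat_iff hV).mp hTc)

theorem noetherianSpace [NoetherianSpace X] : NoetherianSpace (_root_.PtTop.Sob X) := by
  rw [noetherianSpace_iff_opens]
  intro S
  obtain ⟨U, hU, hS⟩ := exists_eq_hat S.2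
  change IsCompact S.1
  rw [show S.1 = hat U from hS, isCompact_hat_iff hU]
  exact NoetherianSpace.isCompact U

end Groth.Agent.PtTop.Sob
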